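/-
Certificate data of a coset enumeration.
-/
import Cfsg.Agent.Lib.CosetEnum.Basic

set_option autoImplicit false
set_option maxRecDepth 1000000

namespace CfsgLib.CosetEnum.SuzD

open CfsgLib.CosetEnum

/-- The packed facts. -/
def facts : Tree :=
  (.leaf 0x8000091000090000700000800006000007000051000060000410000500003000004000020000030000110000200000100001000000)

/-- The parents of the cosets. -/
def par : Tree :=
  (.leaf 0x70000060000051000041000030000020000011000001000000000000)

/-- The packed words. -/
def words : Tree :=
  (.node (.node (.node (.leaf 0x2) (.leaf 0x10101010100a)) (.leaf 0x11002)) (.node (.leaf 0x101010101000a) (.leaf 0x0)))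

/-- The certificate. -/
def data : Data := ⟨2, facts, par, words, 0, 5⟩

/-- Representatives. -/
def rep : Tree :=
  (.leaf 0x9000080000700006000050000400003000020000100000)

/-- The rows of the table. -/
def tab : Tree :=
  (.node (.leaf 0x5000090000400008000070000300006000020000100005000000000400003000000000200001) (.leaf 0x8000070000900006))

/-- The table. -/
def table : Table := ⟨10, rep, tab, .leaf 0⟩

/-- The relators. -/
def rels : List (List ℕ) := [[0, 0], [0, 1, 0, 1, 0, 1, 0, 1, 0, 1], [1, 1]]

/-- The words generating the subgroup. -/
def hw : List (List ℕ) := []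

/-- The origin of the words. -/
def rots : List (ℕ × ℕ) := [(0, 0), (1, 0), (2, 0), (4, 0), (1, 1)]

/-- The generators. -/
def sel : List ℕ := [0, 1]

end CfsgLib.CosetEnum.SuzD
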