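/-
Certificate data of a coset enumeration.
-/
import Cfsg.Agent.Lib.CosetEnum.SuzD.Data

set_option autoImplicit false
set_option maxRecDepth 1000000

namespace CfsgLib.CosetEnum.SuzD

open CfsgLib.CosetEnum

/-- Completion of the rows from 0. -/
def rows0 : List (List ℕ) := [[0x1, 0x1001], [0x1, 0x2001], [0x3001, 0x1001], [0x4001, 0x2001], [0x3001, 0x5001], [0x4001, 0x6001], [0x7001, 0x5001], [0x8001, 0x6001], [0x7001, 0x9001], [0x8001, 0x9001]]

theorem rows0_ok : okRows data table 10 0 rows0 = true := by decide +kernel

theorem rows0_len : rows0.length = 10 := by decide +kernel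

end CfsgLib.CosetEnum.SuzD
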